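import Groth.Agent.Calg46.EssFP.Model
import Groth.Agent.FibInj.Main
import Groth.Agent.FibInj.Regular
import Groth.Prelude.Def_CAlgX

/-!
Maps injective on the closed fibre, over algebras essentially of finite presentation.
-/

set_option autoImplicit false
set_option linter.style.haveILetI false

noncomputable section

universe u

namespace Groth.Agent.Calg46.EssFP

theorem isLocalization_atPrime {X W : Type u} [CommRing X] [CommRing W] [IsLocalRing W] [Algebra X W]
    (M : Submonoid X) [IsLocalization M W] :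
    IsLocalization ((IsLocalRing.maximalIdeal W).comap (algebraMap X W)).primeCompl W :=
  IsLocalization.of_le M _ (fun x hx h => h (IsLocalization.map_units W (⟨x, hx⟩ : M)))
    fun x hx => by
      by_contra h
      exact hx h

/-- An algebra essentially of finite presentation which is local is a localization at a prime. -/
theorem exists_atPrime {R S : Type u} [CommRing R] [CommRing S] [IsLocalRing S] [Algebra R S]
    (hS : CAlgX.IsEssFinitePresentation R S) :
    ∃ (S₀ : Type u) (_ : CommRing S₀) (_ : Algebra R S₀) (_ : Algebra S₀ S) (_ : IsScalarTower R S₀ S)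
      (q : Ideal S₀) (_ : q.IsPrime), Algebra.FinitePresentation R S₀ ∧ IsLocalization.AtPrime S q ∧
      q = (IsLocalRing.maximalIdeal S).comap (algebraMap S₀ S) := by
  obtain ⟨S₀, _, _, _, _, W, hfp, hW⟩ := hS
  exact ⟨S₀, inferInstance, inferInstance, inferInstance, inferInstance, _, inferInstance, hfp,
    isLocalization_atPrime W, rfl⟩

variable {S₀ S : Type u} [CommRing S₀] [CommRing S] [Algebra S₀ S] (W : Submonoid S₀) [IsLocalization W S]
  {X₀ X : Type u} [AddCommGroup X₀] [Module S₀ X₀] [AddCommGroup X] [Module S X] [Module S₀ X]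
  [IsScalarTower S₀ S X] (ℓ : X₀ →ₗ[S₀] X) [IsLocalizedModule W ℓ]

include W in
theorem smul_top_of_smul {s : S₀} (hs : s ∈ W) (J : Submodule S X) {x : X} (h : s • x ∈ J) : x ∈ J := by
  obtain ⟨c, hc⟩ := (IsLocalization.map_units S (⟨s, hs⟩ : W)).exists_left_inv
  rw [show x = c • (s • x) by rw [← algebraMap_smul S s x, ← mul_smul, hc, one_smul]]
  exact J.smul_mem c h

theorem map_mem (I : Ideal S₀) {x : X₀} (hx : x ∈ (I • ⊤ : Submodule S₀ X₀)) :
    ℓ x ∈ ((I.map (algebraMap S₀ S)) • ⊤ : Submodule S X) := by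
  rw [← Submodule.restrictScalars_mem S₀, Ideal.smul_restrictScalars, Submodule.restrictScalars_top]
  exact FibInj.map_mem_smul_top ℓ I hx

theorem exists_smul_mem (I : Ideal S₀) {x : X₀} (hx : ℓ x ∈ ((I.map (algebraMap S₀ S)) • ⊤ : Submodule S X)) :
    ∃ s ∈ W, s • x ∈ (I • ⊤ : Submodule S₀ X₀) := by
  rw [← Submodule.restrictScalars_mem S₀, Ideal.smul_restrictScalars, Submodule.restrictScalars_top] at hx
  obtain ⟨s, hs, y, hy, h⟩ := FibInj.exists_smul_mem_smul_top W ℓ (fun z => by
    obtain ⟨⟨m, s⟩, h⟩ := IsLocalizedModule.surj W ℓ z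
    exact ⟨s, s.2, m, h⟩) I hx
  obtain ⟨t, ht⟩ := IsLocalizedModule.exists_of_eq (S := W) (f := ℓ) (x₁ := s • x) (x₂ := y)
    (by rw [map_smul]; exact h)
  refine ⟨t * s, W.mul_mem t.2 hs, ?_⟩
  rw [mul_smul, show (t : S₀) • s • x = (t : S₀) • y from ht]
  exact Submodule.smul_mem _ _ hy

set_option maxHeartbeats 800000 in
/-- Injectivity on the closed fibre implies injectivity and a flat cokernel. -/
theorem injective_and_flat_coker {R S M N : Type u} [CommRing R] [CommRing S] [IsLocalRing R]
    [IsLocalRing S] [Algebra R S] [IsLocalHom (algebraMap R S)] (hS : CAlgX.IsEssFinitePresentation R S)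
    [AddCommGroup M] [Module S M] [Module R M] [IsScalarTower R S M] [Module.FinitePresentation S M]
    [AddCommGroup N] [Module S N] [Module R N] [IsScalarTower R S N] [Module.FinitePresentation S N] [Module.Flat R N]
    (u : M →ₗ[S] N)
    (hu : ∀ x : M, u x ∈ (IsLocalRing.maximalIdeal R).map (algebraMap R S) • (⊤ : Submodule S N) →
      x ∈ (IsLocalRing.maximalIdeal R).map (algebraMap R S) • (⊤ : Submodule S M)) :
    Function.Injective u ∧ Module.Flat R (N ⧸ LinearMap.range u) := by
  obtain ⟨S₀, _, _, _, _, q, _, hfp, hloc, hq⟩ := exists_atPrime hS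
  haveI := hfp
  haveI := hloc
  letI : Module S₀ M := Module.compHom M (algebraMap S₀ S)
  letI : Module S₀ N := Module.compHom N (algebraMap S₀ S)
  haveI : IsScalarTower S₀ S M := .of_algebraMap_smul fun _ _ => rfl
  haveI : IsScalarTower S₀ S N := .of_algebraMap_smul fun _ _ => rfl
  obtain ⟨M₀, _, _, ℓM, hM₀, hℓM⟩ := exists_fp_model (S₀ := S₀) (S := S) q.primeCompl M
  obtain ⟨N₀, _, _, ℓN, hN₀, hℓN⟩ := exists_fp_model (S₀ := S₀) (S := S) q.primeCompl N
  haveI := hM₀
  haveI := hN₀
  haveI := hℓM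
  haveI := hℓN
  letI : Module R N₀ := Module.compHom N₀ (algebraMap R S₀)
  haveI : IsScalarTower R S₀ N₀ := .of_algebraMap_smul fun _ _ => rfl
  haveI : IsScalarTower R S₀ N := .of_algebraMap_smul fun r x => by
    rw [← algebraMap_smul S (algebraMap R S₀ r) x, ← IsScalarTower.algebraMap_apply, algebraMap_smul]
  obtain ⟨g, s₀, hg⟩ := Module.FinitePresentation.exists_lift_of_isLocalizedModule q.primeCompl ℓN
    ((u.restrictScalars S₀) ∘ₗ ℓM)
  have hgu : ∀ x, ℓN (g x) = (s₀ : S₀) • u (ℓM x) := fun x => LinearMap.congr_fun hg x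
  have hp : q.comap (algebraMap R S₀) = IsLocalRing.maximalIdeal R := by
    rw [hq, Ideal.comap_comap, ← IsScalarTower.algebraMap_eq, IsLocalRing.maximalIdeal_comap]
  have hmap : ((IsLocalRing.maximalIdeal R).map (algebraMap R S₀)).map (algebraMap S₀ S) =
      (IsLocalRing.maximalIdeal R).map (algebraMap R S) := by
    rw [Ideal.map_map, ← IsScalarTower.algebraMap_eq]
  have hflat : Module.Flat R (LocalizedModule q.primeCompl N₀) := by
    rw [FlatModel.flat_localized_iff q.primeCompl (LocalizedModule.mkLinearMap _ N₀),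
      ← FlatModel.flat_localized_iff q.primeCompl ℓN]
    infer_instance
  have hinj : FibInj.FibreInjective (q.comap (algebraMap R S₀)) q.primeCompl g := by
    rintro x ⟨s, hs, hsx⟩
    rw [hp] at hsx ⊢
    have h1 := map_mem (S := S) ℓN _ hsx
    rw [map_smul, hgu, hmap] at h1
    have h2 := hu _ (smul_top_of_smul q.primeCompl s₀.2 _ (smul_top_of_smul q.primeCompl hs _ h1))
    rw [← hmap] at h2
    exact exists_smul_mem (S := S) q.primeCompl ℓM _ h2
  obtain ⟨b, hb, hker, hfl⟩ := FibInj.exists_flat_coker g q hflat hinj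
  constructor
  · refine (injective_iff_map_eq_zero _).2 fun z hz => ?_
    obtain ⟨⟨x, s⟩, hx⟩ := IsLocalizedModule.surj q.primeCompl ℓM z
    have h1 : ℓN (g x) = 0 := by
      rw [hgu, ← hx, Submonoid.smul_def, LinearMap.map_smul_of_tower, hz, smul_zero, smul_zero]
    obtain ⟨t, ht⟩ := (IsLocalizedModule.eq_zero_iff q.primeCompl ℓN).1 h1
    obtain ⟨k, hk⟩ := hker ((t : S₀) • x) (by rw [map_smul]; exact ht)
    have h2 : ℓM x = 0 := (IsLocalizedModule.eq_zero_iff q.primeCompl ℓM).2
      ⟨⟨b ^ k * t, q.primeCompl.mul_mem (q.primeCompl.pow_mem hb k) t.2⟩, by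
        show (b ^ k * (t : S₀)) • x = 0
        rw [mul_smul, hk]⟩
    rw [← hx] at h2
    exact (Submodule.mem_bot S).1 (smul_top_of_smul q.primeCompl s.2 ⊥ ((Submodule.mem_bot S).2 h2))
  · have hr : (LinearMap.range g).localized' S q.primeCompl ℓN = LinearMap.range u := by
      rw [Submodule.localized'_eq_span]
      refine le_antisymm (Submodule.span_le.2 ?_) ?_
      · rintro _ ⟨_, ⟨x, rfl⟩, rfl⟩
        refine ⟨algebraMap S₀ S s₀ • ℓM x, ?_⟩
        rw [map_smul, hgu, algebraMap_smul]
      · rintro _ ⟨z, rfl⟩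
        obtain ⟨⟨x, s⟩, hx⟩ := IsLocalizedModule.surj q.primeCompl ℓM z
        refine smul_top_of_smul q.primeCompl s.2 _ (smul_top_of_smul q.primeCompl s₀.2 _ ?_)
        refine Submodule.subset_span ⟨g x, ⟨x, rfl⟩, ?_⟩
        rw [hgu, ← hx, Submonoid.smul_def, LinearMap.map_smul_of_tower]
    let e : (N ⧸ (LinearMap.range g).localized' S q.primeCompl ℓN) ≃ₗ[S] N ⧸ LinearMap.range u :=
      Submodule.quotEquivOfEq _ _ hr
    have hflatQ : Module.Flat R (N ⧸ (LinearMap.range g).localized' S q.primeCompl ℓN) := by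
      rw [FlatModel.flat_localized_iff q.primeCompl ((LinearMap.range g).toLocalizedQuotient' S q.primeCompl ℓN)]
      intro J y hy
      obtain ⟨s, hs, hsy⟩ :=
        (FlatModel.flat_localized_iff (Submonoid.powers b) (LocalizedModule.mkLinearMap _ _)).1 hfl J y hy
      exact ⟨s, Submonoid.powers_le.2 (show b ∈ q.primeCompl from hb) hs, hsy⟩
    exact Module.Flat.of_linearEquiv (e.restrictScalars R).symm

end Groth.Agent.Calg46.EssFP
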