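import Mathlib.Algebra.Module.FinitePresentation
import Mathlib.Algebra.Module.LocalizedModule.Submodule
import Mathlib.RingTheory.Localization.Integer
import Mathlib.RingTheory.Localization.Module
import Mathlib.RingTheory.TensorProduct.IsBaseChangePi

/-!
Finitely presented modules over a localization come from finitely presented modules.
-/

set_option autoImplicit false
set_option linter.style.haveILetI false

noncomputable section

universe u

namespace Groth.Agent.Calg46.EssFP

variable {S₀ S : Type u} [CommRing S₀] [CommRing S] [Algebra S₀ S] (W : Submonoid S₀) [IsLocalization W S]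

/-- A finitely presented module over a localization is the localization of a finitely presented module. -/
theorem exists_fp_model (M : Type u) [AddCommGroup M] [Module S M] [Module S₀ M] [IsScalarTower S₀ S M]
    [Module.FinitePresentation S M] :
    ∃ (M₀ : Type u) (_ : AddCommGroup M₀) (_ : Module S₀ M₀) (ℓ : M₀ →ₗ[S₀] M),
      Module.FinitePresentation S₀ M₀ ∧ IsLocalizedModule W ℓ := by
  classical
  obtain ⟨b, π, hπ⟩ := Module.Finite.exists_fin' S M
  obtain ⟨T, hT⟩ := Module.FinitePresentation.fg_ker π hπ
  let ℓb : (Fin b → S₀) →ₗ[S₀] (Fin b → S) :=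
    LinearMap.pi fun i => (Algebra.linearMap S₀ S) ∘ₗ LinearMap.proj i
  haveI : IsLocalizedModule W (Algebra.linearMap S₀ S) := (isLocalizedModule_iff_isLocalization' W S).2 inferInstance
  haveI : IsLocalizedModule W ℓb := inferInstance
  choose d hd using fun v : T => IsLocalization.exist_integer_multiples_of_finite W (fun i => (v : Fin b → S) i)
  choose w hw using fun (v : T) i => hd v i
  let s : Set (Fin b → S₀) := Set.range w
  have hs : (Submodule.span S₀ s).localized' S W ℓb = LinearMap.ker π := by
    rw [Submodule.localized'_span, ← hT]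
    have hwv : ∀ v : T, ℓb (w v) = algebraMap S₀ S (d v : S₀) • (v : Fin b → S) := fun v => funext fun i => by
      show algebraMap S₀ S (w v i) = algebraMap S₀ S (d v : S₀) • (v : Fin b → S) i
      rw [hw v i, algebraMap_smul]
    refine le_antisymm (Submodule.span_le.2 ?_) (Submodule.span_le.2 fun v hv => ?_)
    · rintro _ ⟨_, ⟨v, rfl⟩, rfl⟩
      rw [hwv]
      exact Submodule.smul_mem _ _ (Submodule.subset_span v.2)
    · obtain ⟨c, hc⟩ := (IsLocalization.map_units S (d ⟨v, hv⟩)).exists_left_inv
      have : c • ℓb (w ⟨v, hv⟩) = v := by rw [hwv, ← mul_smul, hc, one_smul]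
      rw [← this]
      exact Submodule.smul_mem _ _ (Submodule.subset_span ⟨w ⟨v, hv⟩, ⟨_, rfl⟩, rfl⟩)
  let e : ((Fin b → S) ⧸ (Submodule.span S₀ s).localized' S W ℓb) ≃ₗ[S] M :=
    (Submodule.quotEquivOfEq _ _ hs).trans (LinearMap.quotKerEquivOfSurjective π hπ)
  refine ⟨(Fin b → S₀) ⧸ Submodule.span S₀ s, inferInstance, inferInstance,
    (e.restrictScalars S₀).toLinearMap ∘ₗ (Submodule.span S₀ s).toLocalizedQuotient' S W ℓb, ?_, ?_⟩
  · exact Module.finitePresentation_of_surjective (Submodule.span S₀ s).mkQ (Submodule.mkQ_surjective _)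
      (by rw [Submodule.ker_mkQ]; exact Submodule.fg_span (Set.finite_range w))
  · exact IsLocalizedModule.of_linearEquiv W _ _

end Groth.Agent.Calg46.EssFP
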